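import Cfsg.Agent.StA.BuL
import Cfsg.Agent.S3102
import Cfsg.Agent.S1743
import Cfsg.Agent.S1776
import Cfsg.Agent.S2135
import Cfsg.Agent.S3100
import Cfsg.Agent.LR.GLy

set_option autoImplicit false

namespace Cfsg.Agent.StA

open Subgroup Cfsg Cfsg.Agent.PLocal.Amb Cfsg.Agent.L4S

variable {G : Type*} [Group G] [Finite G] {X M N E V W U P : Subgroup G} {v r w : F → G} {ρ σ : G} {s : F}

open Cfsg.Agent.LR Cfsg.Agent.LyMc Cfsg.Agent.Fus Cfsg.Agent.A11S Cfsg.Agent.Comp.BN in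
theorem ly_one {L : Type*} [Group L] [Finite L] (h : Cfsg.Spor.IsoLy L) {a b : L} (ha : orderOf a = 2)
    (hb : orderOf b = 2) : IsConj a b := by
  have := Fact.mk Nat.prime_two
  obtain ⟨e⟩ := h
  obtain ⟨hs, hG⟩ := S1702.result
  obtain ⟨K, _, t, π, ι', h, h2⟩ := exists_dc_Ly
  have := e.isSimpleGroup
  have hι : Function.Injective (e.symm.toMonoidHom.comp ι') := e.symm.injective.comp h2
  generalize e.symm.toMonoidHom.comp ι' = ι at hι
  have := Finite.of_injective ι hι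
  have hS : SylIn 2 (h.S.map ι) ⊤ := sylIn_two_of_ge le_top (h.pS.map ι) (n := 8)
    (by rw [card_map_of_injective hι, h.card_S]; rfl) (by
      rw [card_top, Nat.card_congr e.toEquiv, hG]; norm_num)
  have key : ∀ a : L, orderOf a = 2 → IsConj (ι (ev h.y wz)) a := fun a ha => by
    obtain ⟨c, -, hc⟩ := hS.exists_conj (Inv.isPGroup_zpowers_of_orderOf_two ha) le_top
    obtain ⟨k, -, hk⟩ := hc _ (mem_zpowers a)
    refine IsConj.trans ?_ (isConj_iff.2 ⟨c, hk.symm⟩ : IsConj a (ι k)).symm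
    by_cases e : k = t
    · exact e ▸ (isConj_t h ι hι hS).symm
    · refine ι.map_isConj (h.isConj_inv (hι ?_) (fun e => Inv.ne_one_of_orderOf_two ha ?_) e)
      · rw [map_mul, hk, conj_mul, Inv.mul_self_of_orderOf_two ha]; simp
      · rw [e, map_one] at hk
        exact conj_eq_one_iff.1 hk.symm
  exact (key a ha).symm.trans (key b hb)

theorem no_iso {L : Type*} [Group L] [Finite L] [IsSimpleGroup L] (hL : ¬ IsMulCommutative L) (z : L) :
    ¬ IsIsolatedInvolution z := fun hi => by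
  have a : pPrimeCore 2 L = ⊥ := (Normal.eq_bot_or_eq_top inferInstance).resolve_right fun e => by
    have b := Grp.pPrimeCore_coprime 2 L
    rw [e, card_top] at b
    exact absurd (Nat.eq_one_of_dvd_coprimes b (hi.1 ▸ orderOf_dvd_natCard z) dvd_rfl) (by norm_num)
  have b : z ∈ center L := mem_center_iff.2 fun g => by
    have := Block.zstar hi g
    rw [a, mem_bot, mul_inv_eq_one, mul_inv_eq_iff_eq_mul] at this
    exact this.symm
  have c : center L = ⊤ := (Normal.eq_bot_or_eq_top inferInstance).resolve_left fun e => by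
    rw [e] at b
    exact Inv.ne_one_of_orderOf_two hi.1 b
  exact hL ⟨⟨fun a b => mem_center_iff.1 (c ▸ mem_top b) a⟩⟩

theorem no_idx {L : Type*} [Group L] [Finite L] [IsSimpleGroup L] (hL : ¬ IsMulCommutative L)
    (N : Subgroup L) (n : N.Normal) : N.index ≠ 2 := fun e => by
  rcases n.eq_bot_or_eq_top with rfl | rfl
  · have := Fact.mk Nat.prime_two
    have := isCyclic_of_prime_card (index_bot.symm.trans e)
    exact hL inferInstance
  · simp at e

namespace Bu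
variable (H : Bu X M N E V W U v r w ρ 0)
include H
omit [Finite G]

theorem inv_mem' {t : G} (ht : t ∈ U) (t2 : t * t = 1) : t ∈ E ∨ t ∈ W := by
  obtain ⟨a, c, y, rfl⟩ := (H.mU t).1 ht
  rw [H.usq, zero_add, ← H.v0] at t2
  rcases mul_eq_zero.1 (H.vinj t2) with rfl | rfl
  · exact .inl (by rw [H.w0, one_mul]; exact mul_mem (H.vE c) (H.rE y))
  · exact .inr (by rw [H.r0, mul_one]; exact mul_mem (H.wW a) (H.vW c))

theorem ncm {a b : G} (ha : a ∈ E) (hb : b ∈ W) (c : Commute a b) : a ∈ V ∨ b ∈ V := by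
  obtain ⟨d, y, rfl⟩ := (H.mE a).1 ha
  obtain ⟨a, c', rfl⟩ := (H.mW b).1 hb
  rw [← one_mul (v d), ← H.w0, ← mul_one (w a * v c'), ← H.r0] at c ⊢
  have := c.eq
  rw [H.umul, H.umul] at this
  have : a * y = 0 := by linear_combination (H.ueq this).2.1
  rw [H.mem_V, H.mem_V]
  simpa [or_comm] using this

theorem sqE {a : G} (ha : a ∈ E) : a * a = 1 := by
  obtain ⟨d, y, rfl⟩ := (H.mE a).1 ha
  rw [(H.cvr d y).symm.mul_mul_mul_comm, H.vsq, H.rsq, mul_one]

theorem sqW {a : G} (ha : a ∈ W) : a * a = 1 := by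
  obtain ⟨d, y, rfl⟩ := (H.mW a).1 ha
  simpa [H.r0, H.v0] using H.usq d y 0

theorem EW {a : G} (ha : a ∈ E) (hb : a ∈ W) : a ∈ V := (H.ncm ha hb (Commute.refl a)).elim id id

theorem VW : V ≤ W := fun g hg => by obtain ⟨c, rfl⟩ := (H.mV g).1 hg; exact H.vW c

theorem r1V {g : G} : g * r 1 * g⁻¹ ∉ V := fun k => by
  obtain ⟨c, e⟩ := (H.mV _).1 k
  exact H.df g 1 c one_ne_zero e

variable [Finite G]

theorem swap {g : G} (a : g ∈ 𝐍[U]) (b : g ∉ 𝐍[E]) : g * r 1 * g⁻¹ ∈ W := by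
  obtain ⟨e, he, n⟩ : ∃ e ∈ E, g * e * g⁻¹ ∉ E := by
    by_contra! c; exact b (mem_normalizer_fintype c)
  have m := fun e (he : e ∈ E) => H.inv_mem' (conj_mem_of_mem_normalizer a (H.EU he))
    (by rw [conj_mul, H.sqE he]; simp)
  exact (m _ (H.rE 1)).elim (fun k => absurd ((H.ncm k ((m e he).resolve_left n)
    ((H.cE (H.rE 1) he).map (MulAut.conj g))).resolve_left H.r1V) fun c => n (H.VE c)) id

end Bu

/-- (S1766, the case of `J₂`.) s = 0, so W and E are elementary, the involutions of U lie in E ∪ W, and no element of E - V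
commutes with an element of W - V. E ≤ X (W ≤ X normal), so U ≤ X. D = {g r y g⁻¹ : y ≠ 0}, E - V ⊆ D, V ∩ D = ∅ (`df`).
V^x = V (W - V^x ⊆ D). x normalises U: by `nU`, U^x contains every 2-element centralising V and W/V, in particular W and E
(apply `nU` to x⁻¹ u x), so U ≤ U^x. E and W are the only elementary subgroups of order 16 of U, so W^x = E, and an odd power of x
that is a 2-element still swaps them: assume x is a 2-element. P Sylow in X containing U⟨x⟩; P ≤ 𝐍[V] (`l2`).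
Apply `S3102` to X, P, V: no normal subgroup of index 2 (simple, non-abelian), no isolated involution (`Block.zstar`, see
`LR.isConj_t`), rank ≥ 3 (E), V^# fused by ρ ∈ X. No normal elementary Φ of order 8 in P: Φ1 = Φ ⊓ 𝐍[U] is normalised by U and x.
f ∈ Φ1 swapping E and W: f e f⁻¹ e ∈ Φ squares to 1 for e = r 1, but f e f⁻¹ ∈ W - V does not commute with e. So f ∈ 𝐍[E]; if
f ∉ U then (`out`) ⁅f, r b⁆ ∈ Φ ⊓ (E - V) and ⁅f, w a⁆ ∈ Φ ⊓ (W - V) commute: no. So Φ1 ≤ U; an element of Φ1 in E - V (W - V)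
has its x-conjugate in W - V (E - V): no. So Φ1 ≤ V, 𝐍_(UΦ)(U) = U, Φ ≤ U (normaliser condition), Φ = Φ1 ≤ V: order ≤ 4.
X has two classes of involutions (r 1 and v 1, `df`), |P| ≥ 128 (x ∉ U). G₂ type: `S1743` (q odd) excludes. J₂ type: `S1776`,
J₃ has one class (`S2135`). Ly type: `S3100`, and Ly has one class: copy `key` in `LR.hasGD_dc` / `LR.hasGD_Ly` (every involution is
conjugate into the Sylow subgroup h.S.map ι). -/
theorem Bv.caseJ (H : Bv X M N E V W U v r w ρ s) (hs : s = 0) {x : G} (hx : x ∈ X) (e : cj(x, E) = W) :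
    Cfsg.Spor.IsoJ2 X := by
  subst hs
  have := Fact.mk Nat.prime_two
  have := H.nX
  have := H.sX
  have B := H.toBu
  have WX : W ≤ X := fun a ha => by
    obtain ⟨a, c, rfl⟩ := (H.mW a).1 ha
    exact mul_mem (H.wX a) (H.vX c)
  have EX : E ≤ X := (cj_le_cj_iff (g := x)).1 (by rw [e, cj_of_normal]; exact WX)
  have UX : U ≤ X := fun a ha => by
    obtain ⟨a, c, y, rfl⟩ := (H.mU a).1 ha
    exact mul_mem (mul_mem (H.wX a) (H.vX c)) (EX (B.rE y))
  have xW : ∀ {x}, cj(x, E) = W → ∀ a ∈ W, x⁻¹ * a * x ∈ E := fun e a ha => mem_cj.1 (e ▸ ha)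
  have xE : ∀ {x}, cj(x, E) = W → ∀ a ∈ E, x * a * x⁻¹ ∈ W := fun e a ha => e ▸ conj_mem_cj _ ha
  have xV : ∀ {x}, cj(x, E) = W → x ∈ 𝐍[V] := fun {x} e => inv_mem_iff.1 (mem_normalizer_fintype fun a ha => by
    obtain ⟨d, y, k⟩ := (H.mE _).1 (xW e a (B.VW ha))
    obtain ⟨c, rfl⟩ := (H.mV a).1 ha
    rw [inv_inv]
    by_cases y0 : y = 0
    · rw [k, y0, B.r0, mul_one]; exact B.vV d
    · refine absurd ?_ (H.df (x * w (d / y)) y c y0)
      calc _ = x * (w (d / y) * r y * (w (d / y))⁻¹) * x⁻¹ := by group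
        _ = _ := by rw [B.dD d y0, ← k]; group)
  have xU : ∀ {x}, cj(x, E) = W → x ∈ 𝐍[U] := fun {x} e => inv_mem_iff.1 (mem_normalizer_fintype fun u hu => by
    obtain ⟨a, c, y, rfl⟩ := (H.mU u).1 hu
    rw [← conj_mul, inv_inv]
    refine mul_mem (B.EU (xW e _ (mul_mem (B.wW a) (B.vW c)))) (H.nU _ ⟨1, ?_⟩ (fun c => ?_) fun z => ?_)
    · rw [pow_one, pow_two, show x⁻¹ * r y * x * (x⁻¹ * r y * x) = x⁻¹ * (r y * r y) * x by group, B.rsq]
      simp
    · obtain ⟨d, k⟩ := (H.mV _).1 (conj_mem_of_mem_normalizer (xV e) (B.vV c))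
      calc _ = x⁻¹ * (r y * (x * v c * x⁻¹)) * x := by group
        _ = _ := by rw [k, ← H.vr, ← k]; group
    · obtain ⟨a, c, k⟩ := (H.mW _).1 (xE e _ (B.rE z))
      obtain ⟨d, k'⟩ := (H.mV _).1 (inv_conj_mem_of_mem_normalizer (xV e) (B.vV (a * y)))
      refine ⟨d, ?_⟩
      calc _ = x⁻¹ * (r y * (x * r z * x⁻¹) * (r y)⁻¹) * x := by group
        _ = x⁻¹ * (x * r z * x⁻¹ * v (a * y)) * x := by
          rw [k, ← mul_assoc (r y), B.rw', mul_assoc _ (r y), ← H.vr, ← mul_assoc _ (v c), mul_inv_cancel_right,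
            mul_assoc (w a), mul_assoc (w a), (B.cvv _ _).eq]
        _ = _ := by rw [← k']; group)
  have xW' : ∀ {x}, cj(x, E) = W → ∀ a ∈ W, x * a * x⁻¹ ∈ E := fun {x} e a ha =>
    (B.inv_mem' (conj_mem_of_mem_normalizer (xU e) (B.WU ha)) (by rw [conj_mul, B.sqW ha]; simp)).elim id
      fun k => B.VE (conj_mem_of_mem_normalizer (xV e) (B.EW (by simpa [mul_assoc] using xW e _ k) ha))
  -- a 2-element
  obtain ⟨x, hx, e, x2⟩ : ∃ x ∈ X, cj(x, E) = W ∧ IsPGroup 2 (zpowers x) := by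
    obtain ⟨k, m, ⟨j, rfl⟩, o⟩ := Nat.exists_eq_two_pow_mul_odd (orderOf_pos x).ne'
    refine ⟨x ^ (2 * j + 1), pow_mem hx _, ?_, isPGroup_zpowers ⟨k, by
      rw [← pow_mul, mul_comm, ← o, pow_orderOf_eq_one]⟩⟩
    rw [pow_succ', PLocal.Amb.cj_mul, pow_mul, cj_of_mem_normalizer (pow_mem (mem_normalizer_fintype
      fun a ha => by simpa [pow_two, mul_assoc] using xW' e _ (xE e a ha)) j), e]
  have pU : IsPGroup 2 U := .of_card (n := 6) H.cU
  obtain ⟨P, hP, le⟩ := exists_isSyl_ge (x2.to_sup_of_normal_right' pU (zpowers_le.2 (xU e)))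
    (sup_le (zpowers_le.2 hx) UX)
  have xP : x ∈ P := le (mem_sup_left (mem_zpowers x))
  have UP : U ≤ P := le_sup_right.trans le
  have no8 : ∀ Φ ≤ P, P ≤ 𝐍[Φ] → (∀ a ∈ Φ, a * a = 1) → (∀ a ∈ Φ, ∀ b ∈ Φ, Commute a b) → Φ ≤ V :=
    fun Φ hΦ n sq cm => by
    have cmm : ∀ f ∈ Φ, ∀ u ∈ P, f * u * f⁻¹ * u⁻¹ ∈ Φ := fun f hf u hu => by
      simpa [mul_assoc] using mul_mem hf (conj_mem_of_mem_normalizer (n hu) (inv_mem hf))
    have k : ∀ f ∈ Φ, f ∈ 𝐍[U] → f ∈ V := fun f hf fU => by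
      have fE : f ∈ 𝐍[E] := by_contra fun c => by
        obtain ⟨a, d, k⟩ := (H.mW _).1 (B.swap fU c)
        have := sq _ (cmm f hf _ (UP (B.EU (B.rE 1))))
        rw [k, B.rinv, B.usq, zero_add, mul_one, ← B.v0] at this
        exact B.r1V (by rw [k, B.vinj this, B.w0, one_mul]; exact B.vV d)
      have fU' : f ∈ U := by_contra fun c => by
        obtain ⟨-, ⟨a, ha⟩, ⟨b, hb⟩, -⟩ := H.out P hP.pgrp UP f (hΦ hf) fE c
        exact (B.ncm (mul_mem (conj_mem_of_mem_normalizer fE (B.rE b)) (inv_mem (B.rE b)))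
          (mul_mem (conj_mem_of_mem_normalizer (H.nE f fE).2.1 (B.wW a)) (inv_mem (B.wW a)))
          (cm _ (cmm f hf _ (UP (B.EU (B.rE b)))) _ (cmm f hf _ (UP (B.wU a))))).elim hb ha
      have m := conj_mem_of_mem_normalizer (n xP) hf
      have i : x * f * x⁻¹ ∈ V → f ∈ V := fun c => by
        simpa [mul_assoc] using inv_conj_mem_of_mem_normalizer (xV e) c
      rcases B.inv_mem' fU' (sq f hf) with c | c
      exacts [(B.ncm c (xE e f c) (cm _ hf _ m)).elim id i, (B.ncm (xW' e f c) c (cm _ m _ hf)).elim i id]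
    have := eq_of_inf_normalizer_le (hP.pgrp.to_le (sup_le UP hΦ)) (le_sup_left : U ≤ U ⊔ Φ)
      fun g ⟨a, b⟩ => by
        obtain ⟨u, hu, f, hf, rfl⟩ := (mem_sup_of_le_normalizer_right (UP.trans n)).1 a
        exact mul_mem hu (B.EU (B.VE (k f hf ((mul_mem_cancel_left (le_normalizer hu)).1 b))))
    exact fun f hf => k f hf (le_normalizer (this.ge (mem_sup_right hf)))
  obtain ⟨S, hS⟩ := hP.exists_sylow
  have mS : ∀ a : X, a ∈ (S : Subgroup X) ↔ (a : G) ∈ P := fun a => by rw [hS, mem_subgroupOf]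
  let j : (S : Subgroup X) →* G := X.subtype.comp (S : Subgroup X).subtype
  have ji : Function.Injective j := Subtype.val_injective.comp Subtype.val_injective
  have jr : j.range = P := le_antisymm (by rintro _ ⟨a, rfl⟩; exact (mS _).1 a.2)
    fun a ha => ⟨⟨⟨a, hP.le ha⟩, (mS _).2 ha⟩, rfl⟩
  have cc : ∀ A ≤ P, Nat.card (A.comap j) = Nat.card A := fun A hA => by
    rw [← card_map_of_injective ji, map_comap_eq_self (jr ▸ hA)]
  have cV : Nat.card V = 4 := by
    rw [← Nat.card_eq_of_bijective (fun c : F => (⟨_, B.vV c⟩ : V)) ⟨fun a b e => B.vinj (Subtype.mk.inj e),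
      fun ⟨g, hg⟩ => by obtain ⟨c, rfl⟩ := (H.mV g).1 hg; exact ⟨c, rfl⟩⟩]
    simp [F.card]
  have VP := (B.VE.trans B.EU).trans UP
  have o2 : ∀ {a : G} (ha : a ∈ E), a ≠ 1 → orderOf (⟨a, EX ha⟩ : X) = 2 := fun ha n =>
    ord2 (fun c => n (congrArg Subtype.val c)) (Subtype.ext (B.sqE ha))
  have two : ¬ ∀ a b : X, orderOf a = 2 → orderOf b = 2 → IsConj a b := fun c => by
    obtain ⟨g, k⟩ := isConj_iff.1 (c _ _ (o2 (B.rE 1) fun c => absurd (B.rinj (c.trans B.r0.symm)) (by decide))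
      (o2 (B.vE 1) fun c => absurd (B.vinj (c.trans B.v0.symm)) (by decide)))
    exact H.df g 1 1 one_ne_zero (congrArg Subtype.val k)
  rcases S3102.result (no_idx H.na) (no_iso H.na) S (fun c => by
      have := c (E.comap j) ⟨⟨fun a b => Subtype.ext (ji (by simpa using (B.cE a.2 b.2).eq))⟩⟩
        fun a ha => ji (by simpa [pow_two] using B.sqE ha)
      rw [cc E (B.EU.trans UP), H.cE] at this
      omega) (fun Φ n ea c => by
      have := card_le_of_le (no8 (Φ.map j) (jr ▸ map_le_range j Φ) (fun g hg => by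
        obtain ⟨g, rfl⟩ := jr.ge hg
        exact mem_normalizer_fintype (by
          rintro _ ⟨a, ha, rfl⟩; exact ⟨_, n.conj_mem a ha g, by simp⟩)) (by
        rintro _ ⟨a, ha, rfl⟩; rw [← map_mul, ← pow_two, ea.2 a ha, map_one]) (by
        rintro _ ⟨a, ha, rfl⟩ _ ⟨b, hb, rfl⟩
        exact Commute.map (congrArg Subtype.val (ea.1.1.1 ⟨a, ha⟩ ⟨b, hb⟩)) j))
      rw [card_map_of_injective ji, c, cV] at this
      omega) (V.comap j) ⟨(cc V VP).trans cV, by
      have : Nontrivial (V.comap j) := Finite.one_lt_card_iff_nontrivial.1 (by rw [cc V VP, cV]; norm_num)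
      refine (Monoid.exponent_eq_prime_iff Nat.prime_two).2 fun g g1 => ord2 g1 (Subtype.ext (ji ?_))
      simpa using B.sqE (B.VE g.2)⟩ ⟨fun a ha g => by
      simpa using conj_mem_of_mem_normalizer (H.l2 P hP.pgrp UP (jr.le ⟨g, rfl⟩)) ha⟩
    (fun a ha b hb a1 b1 => by
      obtain ⟨c, hc⟩ := (H.mV _).1 ha
      obtain ⟨d, hd⟩ := (H.mV _).1 hb
      have c0 : c ≠ 0 := fun k => a1 (ji (by rw [hc, k, B.v0, map_one]))
      have d0 : d ≠ 0 := fun k => b1 (ji (by rw [hd, k, B.v0, map_one]))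
      have k : ∀ g (hg : g ∈ X), g * v c * g⁻¹ = v d → IsConj (a : X) (b : X) := fun g hg e =>
        isConj_iff.2 ⟨⟨g, hg⟩, Subtype.ext (by
          change g * j a * g⁻¹ = j b
          rw [hc, hd, e])⟩
      rcases (by decide : ∀ c d : F, c ≠ 0 → d ≠ 0 → d = c ∨ d = F.w * c ∨ d = F.w * (F.w * c)) c d c0 d0
        with rfl | rfl | rfl
      exacts [k 1 (one_mem _) (by simp), k ρ H.ρX (H.ρv c),
        k (ρ * ρ) (mul_mem H.ρX H.ρX) (by rw [← H.ρv, ← H.ρv]; group)])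
    with ⟨K, _, _, hK, Q, hQ⟩ | ⟨Q, hQ⟩ | hQ
  · refine absurd ((S1743.result (by rw [Nat.odd_iff]; omega) S Q hQ).resolve_right fun ⟨c, _⟩ => ?_) two
    have : U = P := eq_of_le_of_card_ge UP (by
      rw [← jr, ← Nat.card_congr (MonoidHom.ofInjective ji).toEquiv, c, H.cU])
    rw [cj_of_mem_normalizer (B.UnE (this.ge xP))] at e
    exact B.r1V (g := 1) (by simpa using B.EW (B.rE 1) (e ▸ B.rE 1))
  · refine (S1776.result S Q hQ).resolve_right fun ⟨K, _, _, ω, c, d, ⟨f⟩⟩ => two fun a b ha hb => ?_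
    simpa using f.symm.toMonoidHom.map_isConj ((S2135.result c ω d).1 (f a) (f b)
      (by rwa [MulEquiv.orderOf_eq]) (by rwa [MulEquiv.orderOf_eq]))
  · exact absurd (fun a b => ly_one (S3100.result H.na S hQ)) two

end Cfsg.Agent.StA
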